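import Cfsg.Agent.H65.Disp.Rgd
import Cfsg.Agent.H622.Levi.Chain
import Cfsg.Agent.Nodes.Unique

/-!
# S3831, exceptional rows over `F₃`: general lemmas (task T2, helper224)

`exists_w`, `transport`, `surj`, `exists_U`.
-/

set_option autoImplicit false
set_option linter.unusedSectionVars false

namespace Cfsg.Agent.H224.SNX

open CoxeterSystem Cfsg.Agent.ChevalleyStructure.CoxeterGeom Cfsg.Agent.Tits.Roots Cfsg.Agent.Tits.Core
  Cfsg.Agent.Tits.RootComb Cfsg.Agent.Tits.Exchange Cfsg.Agent.Nodes.Reps Cfsg.Agent.Nodes.BNOf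
  Cfsg.Agent.Nodes.StabComb Cfsg.Agent.Nodes.Bruhat Cfsg.Agent.Nodes.OppDec Cfsg.Agent.Nodes.LeviDec
  Cfsg.Agent.Nodes.NormalForm Cfsg.Agent.KFacts.RgdOpp Cfsg.Agent.KFacts.RgdAut Cfsg.Agent.KFacts.RgdDiag
  Cfsg.Agent.KFacts.RgdRigid
open Cfsg.Agent.H622.Levi
open Cfsg.Agent.LieRecognition.BNCox (cA)
open Matrix
open scoped Pointwise commutatorElement

variable {I W Y : Type*} [Fintype I] [DecidableEq I] [Group W] [Group Y] {M : CoxeterMatrix I}
  {cs : CoxeterSystem M W} {A : I → I → ℤ} {h : IsCartan M A} {p : ℕ} {T : Subgroup Y} {n : I → Y}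
  {X : (I → ℤ) → Subgroup Y} (R : RGD cs h p T n X)

include R

/-- transport of coordinates -/
theorem transport [Finite W] {w : W} {k v : Y} (hk : Rp cs R.nsys w k) (hv : v ∈ RGD.Sup X (RGD.Pos cs h))
    {S : Set (I → ℤ)} (hS : S ⊆ RGD.Pos cs h) (hc : Nodes.Unique.Closed cs h S) (hkv : k * v * k⁻¹ ∈ RGD.Sup X S) :
    v ∈ RGD.Sup X {x | x ∈ RGD.Pos cs h ∧ rep cs h w x ∈ S} := by
  have h1 : v ∈ RGD.Sup X (PW cs h w) := by
    have := mem_PW_of_conj R hk.inv hv (by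
      rw [inv_inv]
      exact RGD.U_le_B (RGD.Sup_mono hS hkv))
    rwa [inv_inv] at this
  have h2 : k * v * k⁻¹ ∈ RGD.Sup X (Nodes.Unique.Fut cs h w) := by
    refine conj_mem_Sup R hk (fun x hx => hx.1) (fun x hx => ?_) h1
    exact ⟨hx.1.act _, hx.2.2, by rw [rep_inv_apply]; exact hx.2.1⟩
  have h3 : k * v * k⁻¹ ∈ RGD.Sup X (S ∩ Nodes.Unique.Fut cs h w) := by
    rw [← Nodes.Unique.inf_eq R hS (Nodes.Unique.fut_subset_pos w) hc (Nodes.Unique.closed_fut w)]
    exact ⟨hkv, h2⟩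
  have h4 := conj_mem_Sup' R hk (S' := {x | x ∈ RGD.Pos cs h ∧ rep cs h w x ∈ S})
    (fun x hx => hx.2.1) (fun x hx => ?_) h3
  · have e : k⁻¹ * (k * v * k⁻¹) * k = v := by group
    rwa [e] at h4
  · refine ⟨⟨hx.2.1.act _, hx.2.2.2⟩, ?_⟩
    rw [rep_apply_inv]
    exact hx.1

/-- some conjugate under `W_J` has a nonzero simple coordinate in `J` -/
theorem exists_w [Finite W] {J : Set I} {v : Y} (hv : v ∈ RGD.Sup X (RGD.Pos cs h)) (hJ : v ∉ VJ cs h X J) :
    ∃ w ∈ WJ cs J, ∃ k, Rp cs R.nsys w k ∧ k * v * k⁻¹ ∈ RGD.Sup X (RGD.Pos cs h) ∧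
      ∃ j ∈ J, k * v * k⁻¹ ∉ VJ cs h X {j} := by
  by_contra hcon
  push Not at hcon
  -- all conjugates under `W_J` lie in `U`
  have key : ∀ w ∈ WJ cs J, ∃ k, Rp cs R.nsys w k ∧ k * v * k⁻¹ ∈ RGD.Sup X (RGD.Pos cs h) := by
    intro w hw
    obtain ⟨ω, hω, rfl⟩ := exists_word_of_mem_WJ cs hw
    clear hw
    induction ω with
    | nil => exact ⟨1, by rw [wordProd_nil]; exact rp_one, by simpa using hv⟩
    | cons i ω ih =>
      have hω' : ∀ j ∈ ω, j ∈ J := fun j hj => hω j (by simp [hj])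
      obtain ⟨k, hk, hkU⟩ := ih hω'
      have hwω : cs.wordProd ω ∈ WJ cs J := by
        clear ih hk hkU hω
        induction ω with
        | nil => rw [wordProd_nil]; exact one_mem _
        | cons j ω ih =>
          rw [wordProd_cons]
          exact mul_mem (simple_mem_WJ cs (hω' j (by simp))) (ih fun l hl => hω' l (by simp [hl]))
      have h1 := hcon _ hwω k hk hkU i (hω i (by simp))
      refine ⟨n i * k, ?_, ?_⟩
      · rw [wordProd_cons]
        exact (rp_simple cs R.nsys i).mul hk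
      · have h2 := PJ_le_normalizer_VJ R {i} (LJ_le_PJ (n_mem_LJ R (Set.mem_singleton i)))
        have h3 := (Subgroup.mem_normalizer_iff.1 h2 (k * v * k⁻¹)).1 h1
        have e : n i * (k * v * k⁻¹) * (n i)⁻¹ = n i * k * v * (n i * k)⁻¹ := by group
        rw [e] at h3
        exact VJ_le_U _ h3
  -- the intersection
  have hfin : (Set.univ : Set (WJ cs J)).Finite := Set.toFinite _
  have key2 : ∀ F : Set (WJ cs J), F.Finite → v ∈ RGD.Sup X {x | x ∈ RGD.Pos cs h ∧
      ∀ w ∈ F, 0 ≤ rep cs h (w : W) x} := by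
    intro F hF
    induction F, hF using Set.Finite.induction_on with
    | empty =>
      refine RGD.Sup_mono ?_ hv
      intro x hx
      exact ⟨hx, fun w hw => absurd hw (Set.notMem_empty w)⟩
    | @insert w F hw hF ih =>
      obtain ⟨k, hk, hkU⟩ := key w w.2
      have h1 := transport R hk hv (fun _ hx => hx) Nodes.Unique.closed_pos hkU
      have h2 : v ∈ RGD.Sup X ({x | x ∈ RGD.Pos cs h ∧ rep cs h (w : W) x ∈ RGD.Pos cs h} ∩
          {x | x ∈ RGD.Pos cs h ∧ ∀ w ∈ F, 0 ≤ rep cs h (w : W) x}) := by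
        rw [← Nodes.Unique.inf_eq R (fun x hx => hx.1) (fun x hx => hx.1)]
        · exact ⟨h1, ih⟩
        · intro x hx y hy z hz
          exact ⟨⟨hz.1, RGD.nonneg_of_btwn hx.1.2 hy.1.2 hz⟩, hz.1.act _, RGD.nonneg_of_btwn hx.2.2 hy.2.2 (hz.act _)⟩
        · intro x hx y hy z hz
          exact ⟨⟨hz.1, RGD.nonneg_of_btwn hx.1.2 hy.1.2 hz⟩, fun w hw =>
            RGD.nonneg_of_btwn (hx.2 w hw) (hy.2 w hw) (hz.act _)⟩
      refine RGD.Sup_mono ?_ h2
      rintro x ⟨hx1, hx2⟩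
      refine ⟨hx1.1, fun w' hw' => ?_⟩
      rcases hw' with rfl | hw'
      · exact hx1.2.2
      · exact hx2.2 w' hw'
  refine hJ (RGD.Sup_mono ?_ (key2 Set.univ hfin))
  rintro x ⟨hx, hx2⟩
  rcases mem_PosJ_or_NotJ J hx.1 hx.2 with h1 | h1
  · exfalso
    obtain ⟨w, hw, j, hj, e⟩ := exists_of_mem_RootsJ (PosJ_subset J h1)
    have h2 := hx2 ⟨cs.simple j * w⁻¹, mul_mem (simple_mem_WJ cs hj) (inv_mem hw)⟩ (Set.mem_univ _)
    have h3 : rep cs h (cs.simple j * w⁻¹) x = - sr j := by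
      rw [e, rep_mul_apply, rep_inv_apply, rep_simple_sr]
    rw [h3] at h2
    exact (isRoot_sr cs h j).not_pos_neg (sr_nonneg j) (neg_nonneg.1 h2)
  · exact h1

/-- commutators in an `A₂` subsystem -/
theorem surj [Finite W] [Finite Y] {i j : I} (hij : M i j = 3) (w : W) {x : Y} (hx : x ∈ X (rep cs h w (sr i)))
    (hx1 : x ≠ 1) {s : Y} (hs : s ∈ X (rep cs h w (sr i + sr j))) :
    ∃ t ∈ X (rep cs h w (sr j)), ⁅t, x⁆ = s := by
  have hne : i ≠ j := by
    rintro rfl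
    rw [M.diagonal] at hij
    omega
  let k : Fin 2 ↪ I := ⟨![i, j], by
    intro a b hab
    fin_cases a <;> fin_cases b
    · rfl
    · exact absurd hab hne
    · exact absurd hab hne.symm
    · rfl⟩
  obtain ⟨F, i1, i2, φ, C⟩ := exists_co R le_rfl k (by
    intro a b
    fin_cases a <;> fin_cases b
    · change M i i = _
      rw [M.diagonal]; rfl
    · change M i j = _
      rw [hij]; rfl
    · change M j i = _
      rw [M.symmetric, hij]; rfl
    · change M j j = _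
      rw [M.diagonal]; rfl)
  obtain ⟨g, hg⟩ := exists_rp cs R.nsys w
  have e01 : cr k 0 1 = sr i := cr_succ k 0
  have e12 : cr k 1 2 = sr j := cr_succ k 1
  have e02 : cr k 0 2 = sr i + sr j := by
    rw [← e01, ← e12]
    unfold cr
    rw [← map_add]
    congr 1
    funext l
    fin_cases l <;> decide
  have h01 : (0 : Fin 3) ≠ 1 := by decide
  have h12 : (1 : Fin 3) ≠ 2 := by decide
  have h02 : (0 : Fin 3) ≠ 2 := by decide
  have hroot : IsRoot cs h (sr i + sr j) := by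
    have h1 := (mem_rootsJ (cs := cs) (h := h) (k := k) (by
      intro a b
      fin_cases a <;> fin_cases b
      · change M i i = _
        rw [M.diagonal]; rfl
      · change M i j = _
        rw [hij]; rfl
      · change M j i = _
        rw [M.symmetric, hij]; rfl
      · change M j j = _
        rw [M.diagonal]; rfl) (x := sr i + sr j)).2 ⟨0, 2, h02, e02.symm⟩
    exact h1.1
  have hx' : g⁻¹ * x * g ∈ X (sr i) := by
    have := R.conj_mem' hg ((isRoot_sr cs h i).act w) hx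
    rwa [rep_inv_apply] at this
  have hs' : g⁻¹ * s * g ∈ X (sr i + sr j) := by
    have := R.conj_mem' hg (hroot.act w) hs
    rwa [rep_inv_apply] at this
  obtain ⟨a, ha⟩ : ∃ a, φ (SpecialLinearGroup.transvection h01 a) = g⁻¹ * x * g := by
    have h1 : g⁻¹ * x * g ∈ (X (cr k 0 1) : Set Y) := by rw [e01]; exact hx'
    rw [C.root 0 1 h01] at h1
    exact h1
  obtain ⟨b, hb⟩ : ∃ b, φ (SpecialLinearGroup.transvection h02 b) = g⁻¹ * s * g := by
    have h1 : g⁻¹ * s * g ∈ (X (cr k 0 2) : Set Y) := by rw [e02]; exact hs'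
    rw [C.root 0 2 h02] at h1
    exact h1
  have ha0 : a ≠ 0 := by
    rintro rfl
    have h1 : SpecialLinearGroup.transvection h01 (0 : F) = 1 := by
      ext r c
      simp [SpecialLinearGroup.transvection, Matrix.transvection]
    rw [h1, map_one] at ha
    apply hx1
    have e : x = g * (g⁻¹ * x * g) * g⁻¹ := by group
    rw [e, ← ha]
    group
  refine ⟨g * φ (SpecialLinearGroup.transvection h12 (-(a⁻¹ * b))) * g⁻¹, ?_, ?_⟩
  · refine R.conj_mem hg (isRoot_sr cs h j) ?_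
    have h1 := C.transvection_mem h12 (-(a⁻¹ * b))
    rwa [e12] at h1
  · have h1 : ⁅(SpecialLinearGroup.transvection h12 (-(a⁻¹ * b)) : SpecialLinearGroup (Fin 3) F),
        SpecialLinearGroup.transvection h01 a⁆ = SpecialLinearGroup.transvection h02 b := by
      rw [← commutatorElement_inv, Cfsg.Agent.LieClassical.SLGen.commutator_transvection h02 h01 h12,
        SpecialLinearGroup.transvection_inv]
      congr 1
      rw [mul_neg, neg_neg, mul_inv_cancel_left₀ ha0]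
    have e1 : x = g * φ (SpecialLinearGroup.transvection h01 a) * g⁻¹ := by rw [ha]; group
    have e2 : s = g * φ (SpecialLinearGroup.transvection h02 b) * g⁻¹ := by rw [hb]; group
    rw [e1, e2, ← h1, map_commutatorElement, commutatorElement_def, commutatorElement_def]
    group

/-- An automorphism of `p`-power order normalises a Sylow `p`-subgroup. -/
theorem exists_fix [Finite W] [Finite Y] [Fact p.Prime] (hG : GG cs h T X = ⊤) {x : MulAut Y} {m : ℕ}
    (hx : x ^ p ^ m = 1) : ∃ g : Y, Fix ((MulAut.conj g)⁻¹ * x * MulAut.conj g) (RGD.Sup X (RGD.Pos cs h)) := by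
  obtain ⟨P, hP⟩ := H65.Disp.Rgd.exists_sylow_eq R hG
  have hpx : IsPGroup p (Subgroup.zpowers x) := by
    rintro ⟨y, hy⟩
    obtain ⟨k, rfl⟩ := Subgroup.mem_zpowers_iff.1 hy
    refine ⟨m, Subtype.ext ?_⟩
    change (x ^ k) ^ p ^ m = 1
    rw [← zpow_natCast (x ^ k), ← _root_.zpow_mul, mul_comm, _root_.zpow_mul, zpow_natCast, hx, _root_.one_zpow]
  have h1 := hpx.card_modEq_card_fixedPoints (α := Sylow p Y)
  have h2 := card_sylow_modEq_one p Y
  have h3 : (MulAction.fixedPoints (Subgroup.zpowers x) (Sylow p Y)).Nonempty := by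
    by_contra hcon
    rw [Set.not_nonempty_iff_eq_empty] at hcon
    rw [hcon] at h1
    have h4 : Nat.card (∅ : Set (Sylow p Y)) = 0 := by simp
    rw [h4] at h1
    have h5 := h2.symm.trans h1
    exact (Fact.out : p.Prime).one_lt.ne' (Nat.dvd_one.1 ((Nat.modEq_zero_iff_dvd).1 h5))
  obtain ⟨Q, hQ⟩ := h3
  have hxQ : x • Q = Q := hQ ⟨x, Subgroup.mem_zpowers x⟩
  obtain ⟨g, hg⟩ := MulAction.exists_smul_eq Y P Q
  refine ⟨g, ?_⟩
  rw [← hP, fix_iff]
  have h4 : ((MulAut.conj g)⁻¹ * x * MulAut.conj g) • P = P := by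
    have h5 : MulAut.conj g • P = Q := hg
    rw [mul_smul, mul_smul, h5, hxQ, ← h5, inv_smul_smul]
  exact congrArg (fun S : Sylow p Y => (S : Subgroup Y)) h4

/-- `GG = ⊤` in a simple group: the root groups generate. -/
theorem sup_eq_top [IsSimpleGroup Y] [Nonempty I] (hG : GG cs h T X = ⊤) : RGD.Sup X {x | IsRoot cs h x} = ⊤ := by
  have h1 : T ≤ Subgroup.normalizer (RGD.Sup X {x | IsRoot cs h x} : Set Y) := R.T_le_normalizer fun _ hx => hx
  have h2 : (RGD.Sup X {x | IsRoot cs h x}).Normal := by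
    rw [← Subgroup.normalizer_eq_top_iff, ← top_le_iff, ← hG]
    exact sup_le h1 Subgroup.le_normalizer
  rcases h2.eq_bot_or_eq_top with h3 | h3
  · exfalso
    obtain ⟨i⟩ := ‹Nonempty I›
    obtain ⟨u, hu, hu1⟩ := exists_ne_one R i
    have h4 : u ∈ RGD.Sup X {x | IsRoot cs h x} := RGD.le_Sup (S := {x | IsRoot cs h x}) (isRoot_sr cs h i) hu
    rw [h3, Subgroup.mem_bot] at h4
    exact hu1 h4
  · exact h3

omit R in
/-- an automorphism with `β ^ 3 = 1` is trivial on invariant subgroups of order three -/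
theorem fix_of_card_three [Finite Y] {β : MulAut Y} (hβ : β ^ 3 = 1) {H : Subgroup Y} (hH : Nat.card H = 3)
    (hβH : ∀ x ∈ H, β x ∈ H) {x : Y} (hx : x ∈ H) : β x = x := by
  by_cases hx1 : x = 1
  · rw [hx1, map_one]
  have : Fact (Nat.Prime 3) := ⟨Nat.prime_three⟩
  have hord : orderOf x = 3 := by
    have h1 : orderOf (⟨x, hx⟩ : H) ∣ 3 := hH ▸ orderOf_dvd_natCard _
    rw [Subgroup.orderOf_mk] at h1
    rcases (Nat.dvd_prime Nat.prime_three).1 h1 with h2 | h2
    · exact absurd (orderOf_eq_one_iff.1 h2) hx1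
    · exact h2
  have hgen : ∀ y ∈ H, ∃ k : ℕ, x ^ k = y := by
    intro y hy
    have h1 : Subgroup.zpowers x = H := by
      refine Subgroup.eq_of_le_of_card_ge (by rw [Subgroup.zpowers_le]; exact hx) ?_
      rw [hH, Nat.card_zpowers, hord]
    rw [← h1, ← mem_powers_iff_mem_zpowers] at hy
    obtain ⟨k, hk⟩ := hy
    exact ⟨k, hk⟩
  obtain ⟨k, hk⟩ := hgen _ (hβH x hx)
  have h3 : (β ^ 3) x = x ^ (k * k * k) := by
    have h4 : (β ^ 3) x = β (β (β x)) := rfl
    rw [h4, ← hk, map_pow, ← hk, map_pow, map_pow, ← hk, ← pow_mul, ← pow_mul, ← mul_assoc]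
  rw [hβ, MulAut.one_apply] at h3
  have h5 : k * k * k ≡ 1 [MOD 3] := by
    have h6 : x ^ 1 = x ^ (k * k * k) := by rw [pow_one]; exact h3
    rw [pow_inj_mod, hord] at h6
    exact h6.symm
  have h6 : k ≡ 1 [MOD 3] := by
    have h7 : k % 3 = 0 ∨ k % 3 = 1 ∨ k % 3 = 2 := by omega
    unfold Nat.ModEq at h5 ⊢
    rcases h7 with h7 | h7 | h7 <;> simp [Nat.mul_mod, h7] at h5 ⊢
  have h7 : x ^ k = x ^ 1 := by
    rw [pow_inj_mod, hord]
    exact h6
  rw [← hk, h7, pow_one]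

omit R in
/-- if all root groups have order three then the automorphisms of order three are conjugate into `U` -/
theorem exists_U' (R' : RGD cs h 3 T n X) [Finite W] [Finite Y] (hG1 : RGD.Sup X {x | IsRoot cs h x} = ⊤)
    (hc : ∀ i, Nat.card (X (sr i)) = 3)
    (hsym : ∀ σ : Equiv.Perm I, (∀ i j, M (σ i) (σ j) = M i j) → σ ^ 3 = 1 → σ = 1)
    {x : MulAut Y} (hx : x ^ 3 = 1) :
    ∃ g : Y, ∃ v ∈ RGD.Sup X (RGD.Pos cs h), x = MulAut.conj (g * v * g⁻¹) := by
  have : Fact (Nat.Prime 3) := ⟨Nat.prime_three⟩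
  have hG := GG_eq_top (T := T) hG1
  obtain ⟨g, hg⟩ := exists_fix R' hG (x := x) (m := 1) (by rw [pow_one]; exact hx)
  obtain ⟨u, hu, hU, hUN, hpow, σ, D⟩ := exists_frame_pow R' hG hg
  have h3 : ((MulAut.conj g)⁻¹ * x * MulAut.conj g) ^ 3 = 1 := by
    have h4 := conj_pow (i := 3) (a := (MulAut.conj g)⁻¹) (b := x)
    rw [inv_inv, hx, mul_one, inv_mul_cancel] at h4
    exact h4
  obtain ⟨β, hβ⟩ : ∃ β, β = MulAut.conj u * ((MulAut.conj g)⁻¹ * x * MulAut.conj g) := ⟨_, rfl⟩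
  have hβ3 := hpow 3 h3
  rw [← hβ] at hβ3 D
  have hσ3 : σ ^ 3 = 1 := by
    ext i
    obtain ⟨y, hy, hy1⟩ := exists_ne_one R' i
    exact Diag.apply_eq R' (D.pow 3) hy hy1 (by rw [hβ3]; rfl)
  have hσ := hsym σ (fun i j => D.matrix (R := R') i j) hσ3
  subst hσ
  have hβ1 : β = 1 := Diag.eq_one R' hG1 D fun i y hy =>
    fix_of_card_three hβ3 (hc i) (fun z hz => (D.pos i z).2 hz) hy
  refine ⟨g, u⁻¹, inv_mem hu, ?_⟩
  have e : x = MulAut.conj g * (MulAut.conj u⁻¹ * β) * (MulAut.conj g)⁻¹ := by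
    rw [hβ, map_inv]
    group
  rw [e, hβ1, mul_one, map_mul, map_mul, map_inv, map_inv]

omit R in
/-- `exists_U'` for simple groups -/
theorem exists_U (R' : RGD cs h 3 T n X) [Finite W] [Finite Y] [IsSimpleGroup Y] [Nonempty I] (hG : GG cs h T X = ⊤)
    (hc : ∀ i, Nat.card (X (sr i)) = 3)
    (hsym : ∀ σ : Equiv.Perm I, (∀ i j, M (σ i) (σ j) = M i j) → σ ^ 3 = 1 → σ = 1)
    {x : MulAut Y} (hx : x ^ 3 = 1) :
    ∃ g : Y, ∃ v ∈ RGD.Sup X (RGD.Pos cs h), x = MulAut.conj (g * v * g⁻¹) :=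
  exists_U' R' (sup_eq_top R' hG) hc hsym hx

end Cfsg.Agent.H224.SNX
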